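/-
helper72: simple groups with exactly 22 Sylow 3-subgroups (towards S4346): basic facts about the
action on the 22 Sylow 3-subgroups.
-/
import Mathlib

set_option autoImplicit false

namespace Cfsg.Agent.Lib.Helper72.N22

open MulAction Subgroup

theorem fact3 : Fact (Nat.Prime 3) := ⟨by norm_num⟩

theorem fact11 : Fact (Nat.Prime 11) := ⟨by norm_num⟩

attribute [local instance] fact3 fact11

variable {G : Type*} [Group G] [Finite G]

/-- In a simple group with `22` Sylow `3`-subgroups, only the identity fixes them all. -/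
theorem eq_one_of_forall_smul [IsSimpleGroup G] (h22 : Nat.card (Sylow 3 G) = 22) (g : G)
    (hg : ∀ Q : Sylow 3 G, g • Q = Q) : g = 1 := by
  have hn : (MulAction.toPermHom G (Sylow 3 G)).ker.Normal := MonoidHom.normal_ker _
  rcases hn.eq_bot_or_eq_top with h | h
  · have : g ∈ (MulAction.toPermHom G (Sylow 3 G)).ker := by
      rw [MonoidHom.mem_ker]
      ext Q
      simp [hg Q]
    rw [h] at this
    exact Subgroup.mem_bot.mp this
  · exfalso
    have hall : ∀ (x : G) (Q : Sylow 3 G), x • Q = Q := by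
      intro x Q
      have hx : x ∈ (MulAction.toPermHom G (Sylow 3 G)).ker := by rw [h]; trivial
      rw [MonoidHom.mem_ker] at hx
      have := congrArg (fun e : Equiv.Perm (Sylow 3 G) => e Q) hx
      simpa using this
    obtain ⟨P⟩ : Nonempty (Sylow 3 G) := inferInstance
    have huniq : ∀ Q : Sylow 3 G, Q = P := by
      intro Q
      obtain ⟨x, rfl⟩ := MulAction.exists_smul_eq G P Q
      exact hall x P
    have : Nat.card (Sylow 3 G) = 1 := by
      rw [Nat.card_eq_one_iff_unique]
      exact ⟨⟨fun a b => (huniq a).trans (huniq b).symm⟩, ⟨P⟩⟩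
    omega

/-- `22` divides the order. -/
theorem dvd_card_of_card_sylow (h22 : Nat.card (Sylow 3 G) = 22) : 22 ∣ Nat.card G := by
  obtain ⟨P⟩ : Nonempty (Sylow 3 G) := inferInstance
  rw [← h22, Sylow.card_eq_index_normalizer P]
  exact Subgroup.index_dvd_card _

/-- the order is `22` times the order of a Sylow normalizer -/
theorem card_eq_mul_normalizer (h22 : Nat.card (Sylow 3 G) = 22) (P : Sylow 3 G) :
    Nat.card G = 22 * Nat.card (normalizer ((P : Subgroup G) : Set G)) := by
  rw [← h22, Sylow.card_eq_index_normalizer P]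
  exact (Subgroup.index_mul_card _).symm

/-- A simple group of order more than `2` acts by even permutations on every finite set. -/
theorem sign_toPerm_eq_one' [IsSimpleGroup G] (hG : 2 < Nat.card G) {α : Type*} [MulAction G α]
    [Fintype α] [DecidableEq α] (g : G) :
    Equiv.Perm.sign (MulAction.toPerm g : Equiv.Perm α) = 1 := by
  set f : G →* ℤˣ := (Equiv.Perm.sign).comp (MulAction.toPermHom G α) with hf
  have hn : f.ker.Normal := MonoidHom.normal_ker _
  rcases hn.eq_bot_or_eq_top with h | h
  · exfalso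
    have hinj : Function.Injective f := (MonoidHom.ker_eq_bot_iff f).mp h
    have h1 : Nat.card G ≤ Nat.card ℤˣ := Nat.card_le_card_of_injective f hinj
    have h2 : Nat.card ℤˣ = 2 := by
      rw [Nat.card_eq_fintype_card]; rfl
    omega
  · have hx : g ∈ f.ker := by rw [h]; trivial
    rw [MonoidHom.mem_ker] at hx
    exact hx

theorem two_lt_card (h22 : Nat.card (Sylow 3 G) = 22) : 2 < Nat.card G := by
  have h3 := dvd_card_of_card_sylow h22
  have h4 : 0 < Nat.card G := Nat.card_pos
  have := Nat.le_of_dvd h4 h3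
  omega

/-- every element acts on the Sylow `3`-subgroups as an even permutation -/
theorem sign_toPerm_eq_one [IsSimpleGroup G] [Fintype (Sylow 3 G)] [DecidableEq (Sylow 3 G)]
    (h22 : Nat.card (Sylow 3 G) = 22) (g : G) :
    Equiv.Perm.sign (MulAction.toPerm g : Equiv.Perm (Sylow 3 G)) = 1 :=
  sign_toPerm_eq_one' (two_lt_card h22) g

/-- a Sylow subgroup fixing a Sylow subgroup is equal to it -/
theorem eq_of_forall_smul_eq (P Q : Sylow 3 G) (h : ∀ c : ↥(P : Subgroup G), c • Q = Q) : Q = P := by
  have hfix : Q ∈ fixedPoints ↥(P : Subgroup G) (Sylow 3 G) := fun c => h c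
  rw [P.2.sylow_mem_fixedPoints_iff] at hfix
  exact Sylow.ext (P.is_maximal' Q.2 hfix)

/-- the orbits of a Sylow `3`-subgroup on the other Sylow `3`-subgroups have `3` or `9` elements -/
theorem ncard_orbit (h22 : Nat.card (Sylow 3 G) = 22) (P Q : Sylow 3 G) (hne : P ≠ Q) :
    (orbit ↥(P : Subgroup G) Q).ncard = 3 ∨ (orbit ↥(P : Subgroup G) Q).ncard = 9 := by
  have hidx := MulAction.index_stabilizer ↥(P : Subgroup G) Q
  obtain ⟨k, hk⟩ := (IsPGroup.iff_card.mp P.2)
  have hdvd : (orbit ↥(P : Subgroup G) Q).ncard ∣ 3 ^ k := by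
    rw [← hidx, ← hk]
    exact Subgroup.index_dvd_card _
  obtain ⟨a, ha, hna⟩ := (Nat.dvd_prime_pow (by norm_num : Nat.Prime 3)).mp hdvd
  have hPnot : P ∉ orbit ↥(P : Subgroup G) Q := by
    rintro ⟨x, hx⟩
    apply hne
    have hx' : (x : G) • Q = P := hx
    have h2 : (x : G)⁻¹ • P = P := by
      rw [Sylow.smul_eq_iff_mem_normalizer]
      exact Subgroup.le_normalizer (inv_mem x.2)
    have h1 : (x : G)⁻¹ • ((x : G) • Q) = (x : G)⁻¹ • P := congrArg _ hx'
    rw [smul_smul, inv_mul_cancel, one_smul, h2] at h1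
    exact h1.symm
  have hle : (orbit ↥(P : Subgroup G) Q).ncard ≤ 21 := by
    have hsub : orbit ↥(P : Subgroup G) Q ⊆ ({P} : Set (Sylow 3 G))ᶜ := by
      intro R hR
      rw [Set.mem_compl_iff, Set.mem_singleton_iff]
      rintro rfl
      exact hPnot hR
    have h1 := Set.ncard_le_ncard hsub (Set.toFinite _)
    rw [Set.ncard_compl, Set.ncard_singleton, h22] at h1
    exact h1
  have ha0 : a ≠ 0 := by
    rintro rfl
    rw [pow_zero] at hna
    rw [hna] at hidx
    have htop : stabilizer ↥(P : Subgroup G) Q = ⊤ := Subgroup.index_eq_one.mp hidx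
    apply hne
    refine (eq_of_forall_smul_eq P Q fun c => ?_).symm
    have : c ∈ stabilizer ↥(P : Subgroup G) Q := by rw [htop]; trivial
    exact this
  rw [hna] at hle ⊢
  have ha2 : a < 3 := by
    by_contra h
    have : 3 ^ 3 ≤ 3 ^ a := Nat.pow_le_pow_right (by norm_num) (by omega)
    omega
  have : a = 1 ∨ a = 2 := by omega
  rcases this with rfl | rfl
  · left; norm_num
  · right; norm_num

end Cfsg.Agent.Lib.Helper72.N22
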