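/-
helper72: simple groups with exactly 22 Sylow 3-subgroups (towards S4346): the Sylow 11-subgroups.
-/
import Mathlib
import Cfsg.Agent.Lib.Helper72.N22.Basic
import Cfsg.Agent.Lib.Helper23.N21.Parity
import Cfsg.Agent.Lib.Helper23.Burnside

set_option autoImplicit false

namespace Cfsg.Agent.Lib.Helper72.N22

open MulAction Subgroup

attribute [local instance] fact3 fact11

variable {G : Type*} [Group G] [Finite G]

/-- an element normalizing `R` maps `R`-orbits to `R`-orbits -/
theorem smul_mem_orbit_of_smul_eq (R Q S : Sylow 3 G) (g : G) (hg : g • R = R)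
    (hS : S ∈ orbit ↥(R : Subgroup G) Q) : g • S ∈ orbit ↥(R : Subgroup G) (g • Q) := by
  obtain ⟨r, rfl⟩ := hS
  have hgN : g ∈ normalizer ((R : Subgroup G) : Set G) := Sylow.smul_eq_iff_mem_normalizer.mp hg
  refine ⟨⟨g * r * g⁻¹, (mem_normalizer_iff.mp hgN _).mp r.2⟩, ?_⟩
  show (g * (r : G) * g⁻¹) • (g • Q) = g • ((r : G) • Q)
  simp [smul_smul]

/-- **No element of order `11` normalizes a Sylow `3`-subgroup.** -/
theorem smul_ne_of_orderOf_eleven [IsSimpleGroup G] (h22 : Nat.card (Sylow 3 G) = 22) (x : G)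
    (hx : orderOf x = 11) (R : Sylow 3 G) : x • R ≠ R := by
  intro hxR
  have hx1 : x ≠ 1 := by
    rintro rfl
    simp at hx
  obtain ⟨Q, hQ⟩ : ∃ Q : Sylow 3 G, x • Q ≠ Q := by
    by_contra h
    push Not at h
    exact hx1 (eq_one_of_forall_smul h22 x h)
  have hQR : R ≠ Q := by
    rintro rfl
    exact hQ hxR
  have hOcard := ncard_orbit h22 R Q hQR
  -- an element of `⟨x⟩` mapping a point of the orbit into the orbit is trivial
  have key : ∀ y ∈ zpowers x, ∀ S' ∈ orbit ↥(R : Subgroup G) Q,
      y • S' ∈ orbit ↥(R : Subgroup G) Q → y = 1 := by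
    intro y hy S' hS' hyS'
    by_contra hy1
    have hyR : y • R = R := by
      obtain ⟨k, rfl⟩ := hy
      have : x ∈ stabilizer G R := hxR
      exact (stabilizer G R).zpow_mem this k
    have hyO : ∀ T ∈ orbit ↥(R : Subgroup G) Q, y • T ∈ orbit ↥(R : Subgroup G) Q := by
      intro T hT
      have h1 : orbit ↥(R : Subgroup G) S' = orbit ↥(R : Subgroup G) Q := orbit_eq_iff.mpr hS'
      have hT' : T ∈ orbit ↥(R : Subgroup G) S' := by rw [h1]; exact hT
      have h2 := smul_mem_orbit_of_smul_eq R S' T y hyR hT'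
      have h3 : orbit ↥(R : Subgroup G) (y • S') = orbit ↥(R : Subgroup G) Q :=
        orbit_eq_iff.mpr hyS'
      rw [h3] at h2
      exact h2
    have hyord : orderOf y = 11 := by
      have h1 : orderOf y ∣ 11 := hx ▸ orderOf_dvd_of_mem_zpowers hy
      rcases (Nat.dvd_prime (by norm_num : Nat.Prime 11)).mp h1 with h | h
      · exact absurd (orderOf_eq_one_iff.mp h) hy1
      · exact h
    have hxy : x ∈ zpowers y := by
      have hle : zpowers y ≤ zpowers x := (zpowers_le).mpr hy
      have hcard : Nat.card (zpowers x) ≤ Nat.card (zpowers y) := by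
        rw [Nat.card_zpowers, Nat.card_zpowers, hx, hyord]
      rw [Subgroup.eq_of_le_of_card_ge hle hcard]
      exact mem_zpowers x
    -- the orbit of `Q` under `⟨y⟩` lies in the `R`-orbit
    have hpow : ∀ n : ℕ, y ^ n • Q ∈ orbit ↥(R : Subgroup G) Q := by
      intro n
      induction n with
      | zero => simp
      | succ n ih =>
        rw [pow_succ', mul_smul]
        exact hyO _ ih
    have hsub : orbit ↥(zpowers y) Q ⊆ orbit ↥(R : Subgroup G) Q := by
      rintro _ ⟨⟨z, hz⟩, rfl⟩
      have hfin : IsOfFinOrder y := isOfFinOrder_of_finite y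
      obtain ⟨n, rfl⟩ := (hfin.mem_powers_iff_mem_zpowers).mpr hz
      exact hpow n
    have hdvd : (orbit ↥(zpowers y) Q).ncard ∣ 11 := by
      have h1 := MulAction.index_stabilizer ↥(zpowers y) Q
      rw [← h1, ← hyord, ← Nat.card_zpowers]
      exact Subgroup.index_dvd_card _
    have hle : (orbit ↥(zpowers y) Q).ncard ≤ 9 := by
      have := Set.ncard_le_ncard hsub (Set.toFinite _)
      omega
    have hone : (orbit ↥(zpowers y) Q).ncard = 1 := by
      rcases (Nat.dvd_prime (by norm_num : Nat.Prime 11)).mp hdvd with h | h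
      · exact h
      · omega
    have hyQ : y • Q = Q := by
      rw [Set.ncard_eq_one] at hone
      obtain ⟨a, ha⟩ := hone
      have h1 : Q ∈ orbit ↥(zpowers y) Q := mem_orbit_self Q
      have h2 : y • Q ∈ orbit ↥(zpowers y) Q := ⟨⟨y, mem_zpowers y⟩, rfl⟩
      rw [ha] at h1 h2
      rw [Set.mem_singleton_iff] at h1 h2
      exact h2.trans h1.symm
    apply hQ
    obtain ⟨k, rfl⟩ := hxy
    have : y ∈ stabilizer G Q := hyQ
    exact (stabilizer G Q).zpow_mem this k
  -- counting
  let φ : ↥(zpowers x) × ↥(orbit ↥(R : Subgroup G) Q) → Sylow 3 G := fun p => (p.1 : G) • (p.2 : Sylow 3 G)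
  have hφ : Function.Injective φ := by
    rintro ⟨z, S⟩ ⟨z', S'⟩ h
    have h' : (z : G) • (S : Sylow 3 G) = (z' : G) • (S' : Sylow 3 G) := h
    have h1 : ((z' : G)⁻¹ * (z : G)) • (S : Sylow 3 G) = (S' : Sylow 3 G) := by
      rw [mul_smul, h', smul_smul, inv_mul_cancel, one_smul]
    have h2 := key ((z' : G)⁻¹ * (z : G)) ((zpowers x).mul_mem ((zpowers x).inv_mem z'.2) z.2)
      S S.2 (by rw [h1]; exact S'.2)
    have h3 : (z : G) = (z' : G) := by
      have := congrArg (fun t => (z' : G) * t) h2
      simpa using this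
    have h4 : z = z' := Subtype.ext h3
    subst h4
    have h5 : (S : Sylow 3 G) = (S' : Sylow 3 G) := by
      have := congrArg (fun t => (z : G)⁻¹ • t) h'
      simpa [smul_smul] using this
    rw [Subtype.ext h5]
  have hcard := Nat.card_le_card_of_injective φ hφ
  rw [Nat.card_prod, Nat.card_zpowers, hx, h22, Nat.card_coe_set_eq] at hcard
  omega

/-- a nontrivial `11`-element fixes no Sylow `3`-subgroup -/
theorem smul_ne_of_mem_sylow_eleven [IsSimpleGroup G] (h22 : Nat.card (Sylow 3 G) = 22)
    (X : Sylow 11 G) (z : G) (hz : z ∈ (X : Subgroup G)) (hz1 : z ≠ 1) (R : Sylow 3 G) :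
    z • R ≠ R := by
  intro hzR
  obtain ⟨b, hb⟩ := (IsPGroup.iff_orderOf.mp X.2) ⟨z, hz⟩
  rw [Subgroup.orderOf_mk] at hb
  have hb0 : b ≠ 0 := by
    rintro rfl
    rw [pow_zero, orderOf_eq_one_iff] at hb
    exact hz1 hb
  have hw : orderOf (z ^ 11 ^ (b - 1)) = 11 := by
    rw [orderOf_pow_of_dvd (by positivity) (by rw [hb]; exact pow_dvd_pow 11 (by omega)), hb,
      Nat.pow_div (by omega) (by norm_num)]
    have : b - (b - 1) = 1 := by omega
    rw [this, pow_one]
  refine smul_ne_of_orderOf_eleven h22 _ hw R ?_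
  have : z ∈ stabilizer G R := hzR
  exact (stabilizer G R).pow_mem this _

/-- a Sylow `11`-subgroup has order `11` -/
theorem card_sylow_eleven [IsSimpleGroup G] (h22 : Nat.card (Sylow 3 G) = 22) (X : Sylow 11 G) :
    Nat.card ↥(X : Subgroup G) = 11 := by
  obtain ⟨R⟩ : Nonempty (Sylow 3 G) := inferInstance
  have hstab : stabilizer ↥(X : Subgroup G) R = ⊥ := by
    rw [eq_bot_iff]
    intro z hz
    rw [Subgroup.mem_bot]
    by_contra hz1
    have hz1' : (z : G) ≠ 1 := fun h => hz1 (Subtype.ext h)
    exact smul_ne_of_mem_sylow_eleven h22 X z z.2 hz1' R hz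
  have hidx := MulAction.index_stabilizer ↥(X : Subgroup G) R
  rw [hstab, Subgroup.index_bot] at hidx
  have hle : Nat.card ↥(X : Subgroup G) ≤ 22 := by
    rw [hidx, ← h22, ← Set.ncard_univ]
    exact Set.ncard_le_ncard (Set.subset_univ _) (Set.toFinite _)
  obtain ⟨a, ha⟩ := (IsPGroup.iff_card.mp X.2)
  have h11 : 11 ∣ Nat.card G := (by norm_num : 11 ∣ 22).trans (dvd_card_of_card_sylow h22)
  have hne : (X : Subgroup G) ≠ ⊥ := X.ne_bot_of_dvd_card h11
  have ha0 : a ≠ 0 := by
    rintro rfl
    rw [pow_zero] at ha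
    exact hne ((Subgroup.card_eq_one).mp ha)
  rw [ha] at hle ⊢
  have ha2 : a < 2 := by
    by_contra h
    have : 11 ^ 2 ≤ 11 ^ a := Nat.pow_le_pow_right (by norm_num) (by omega)
    omega
  have : a = 1 := by omega
  rw [this, pow_one]

/-- no element of prime order other than `11` commutes with an element of order `11` -/
theorem false_of_commute_prime [IsSimpleGroup G] (h22 : Nat.card (Sylow 3 G) = 22) (x u : G)
    (hx : orderOf x = 11) (hxu : Commute x u) (l : ℕ) (hl : l.Prime) (hl11 : l ≠ 11)
    (hu : orderOf u = l) : False := by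
  classical
  have := Fintype.ofFinite (Sylow 3 G)
  have : Fact l.Prime := ⟨hl⟩
  -- `11` divides the number of fixed points of `u`
  have h11 : Nat.card (fixedBy (Sylow 3 G) u) ≡ 0 [MOD 11] := by
    let Y : SubMulAction ↥(zpowers x) (Sylow 3 G) :=
      { carrier := fixedBy (Sylow 3 G) u
        smul_mem' := by
          rintro ⟨c, hc⟩ Q hQ
          rw [MulAction.mem_fixedBy] at hQ ⊢
          have hcu : Commute c u := by
            obtain ⟨k, rfl⟩ := hc
            exact hxu.zpow_left k
          show u • (c • Q) = c • Q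
          rw [smul_smul, ← hcu.eq, ← smul_smul, hQ] }
    have hp : IsPGroup 11 ↥(zpowers x) := by
      apply IsPGroup.of_card (n := 1)
      rw [Nat.card_zpowers, hx, pow_one]
    have hmod := hp.card_modEq_card_fixedPoints (↥Y)
    have h1 : Nat.card ↥Y = Nat.card (fixedBy (Sylow 3 G) u) := rfl
    have h2 : Nat.card (fixedPoints ↥(zpowers x) ↥Y) = 0 := by
      rw [Nat.card_eq_zero]
      left
      refine ⟨fun ⟨⟨Q, hQ⟩, hQf⟩ => ?_⟩
      have := hQf ⟨x, mem_zpowers x⟩
      have h3 : x • Q = Q := congrArg (fun z : ↥Y => (z : Sylow 3 G)) this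
      exact smul_ne_of_orderOf_eleven h22 x hx Q h3
    rw [h1, h2] at hmod
    exact hmod
  -- the number of fixed points of `u` is congruent to `22` modulo `l`
  have hlmod : 22 ≡ Nat.card (fixedBy (Sylow 3 G) u) [MOD l] := by
    have hp : IsPGroup l ↥(zpowers u) := by
      apply IsPGroup.of_card (n := 1)
      rw [Nat.card_zpowers, hu, pow_one]
    have hmod := hp.card_modEq_card_fixedPoints (Sylow 3 G)
    have h1 : fixedPoints ↥(zpowers u) (Sylow 3 G) = fixedBy (Sylow 3 G) u := by
      ext Q
      constructor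
      · intro h
        exact h ⟨u, mem_zpowers u⟩
      · rintro h ⟨c, hc⟩
        obtain ⟨k, rfl⟩ := hc
        have : u ∈ stabilizer G Q := h
        exact (stabilizer G Q).zpow_mem this k
    rw [h1, h22] at hmod
    exact hmod
  have hle : Nat.card (fixedBy (Sylow 3 G) u) ≤ 22 := by
    rw [← h22, Nat.card_coe_set_eq, ← Set.ncard_univ]
    exact Set.ncard_le_ncard (Set.subset_univ _) (Set.toFinite _)
  have hcases : Nat.card (fixedBy (Sylow 3 G) u) = 0 ∨ Nat.card (fixedBy (Sylow 3 G) u) = 11 ∨
      Nat.card (fixedBy (Sylow 3 G) u) = 22 := by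
    unfold Nat.ModEq at h11
    omega
  have hl2 : 2 ≤ l := hl.two_le
  rcases hcases with h0 | h0 | h0
  · -- fixed point free: `l = 2`, parity
    rw [h0] at hlmod
    have hdvd : l ∣ 22 := (Nat.modEq_zero_iff_dvd.mp hlmod)
    have hl' : l = 2 := by
      have h2211 : (22 : ℕ) = 2 * 11 := by norm_num
      rw [h2211] at hdvd
      rcases (Nat.Prime.dvd_mul hl).mp hdvd with h | h
      · exact (Nat.prime_dvd_prime_iff_eq hl Nat.prime_two).mp h
      · exact absurd ((Nat.prime_dvd_prime_iff_eq hl (by norm_num)).mp h) hl11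
    have hu2 : u ^ 2 = 1 := by rw [← hl', ← hu]; exact pow_orderOf_eq_one u
    obtain ⟨t, ht⟩ := Cfsg.Agent.Lib.Helper23.N21.card_fixedBy_add (X := Sylow 3 G) u hu2
      (sign_toPerm_eq_one h22 u)
    rw [← Nat.card_eq_fintype_card, h22, h0] at ht
    omega
  · rw [h0] at hlmod
    have hdvd : l ∣ 11 := by
      have := (Nat.modEq_iff_dvd' (by norm_num : 11 ≤ 22)).mp hlmod.symm
      simpa using this
    exact hl11 ((Nat.prime_dvd_prime_iff_eq hl (by norm_num)).mp hdvd)
  · have huniv : fixedBy (Sylow 3 G) u = Set.univ := by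
      rw [Set.eq_univ_iff_ncard, ← Nat.card_coe_set_eq, h0, h22]
    have h1 : u = 1 := by
      apply eq_one_of_forall_smul h22
      intro Q
      have : Q ∈ fixedBy (Sylow 3 G) u := by rw [huniv]; trivial
      exact this
    rw [h1, orderOf_one] at hu
    omega

/-- an element commuting with an element of order `11` has `11`-power order -/
theorem orderOf_eq_pow_of_commute [IsSimpleGroup G] (h22 : Nat.card (Sylow 3 G) = 22) (x c : G)
    (hx : orderOf x = 11) (hxc : Commute x c) : ∃ a : ℕ, orderOf c = 11 ^ a := by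
  refine ⟨_, Nat.eq_prime_pow_of_unique_prime_dvd (orderOf_pos c).ne' ?_⟩
  intro l hl hdvd
  by_contra hl11
  have hu : orderOf (c ^ (orderOf c / l)) = l := orderOf_pow_orderOf_div (orderOf_pos c).ne' hdvd
  exact false_of_commute_prime h22 x _ hx (hxc.pow_right _) l hl hl11 hu

/-- a Sylow `11`-subgroup is self-centralizing -/
theorem centralizer_sylow_eleven [IsSimpleGroup G] (h22 : Nat.card (Sylow 3 G) = 22)
    (X : Sylow 11 G) : centralizer ((X : Subgroup G) : Set G) = (X : Subgroup G) := by
  have hcard := card_sylow_eleven h22 X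
  have hXne : (X : Subgroup G) ≠ ⊥ := by
    intro h
    rw [h, Subgroup.card_bot] at hcard
    omega
  obtain ⟨x, hx1⟩ := (Subgroup.ne_bot_iff_exists_ne_one.mp hXne)
  have hx1' : (x : G) ≠ 1 := fun h => hx1 (Subtype.ext h)
  have hxord : orderOf (x : G) = 11 := by
    have h1 : orderOf (x : G) ∣ 11 := by
      have := Subgroup.orderOf_dvd_natCard (X : Subgroup G) x.2
      rwa [hcard] at this
    rcases (Nat.dvd_prime (by norm_num : Nat.Prime 11)).mp h1 with h | h
    · exact absurd (orderOf_eq_one_iff.mp h) hx1'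
    · exact h
  have hXab : (X : Subgroup G) ≤ centralizer ((X : Subgroup G) : Set G) := by
    have hzp : zpowers (x : G) = (X : Subgroup G) := by
      apply Subgroup.eq_of_le_of_card_ge ((zpowers_le).mpr x.2)
      rw [Nat.card_zpowers, hxord, hcard]
    intro a ha b hb
    rw [← hzp] at ha
    have hb' : b ∈ zpowers (x : G) := by rw [hzp]; exact hb
    obtain ⟨i, rfl⟩ := ha
    obtain ⟨j, rfl⟩ := hb'
    exact (Commute.zpow_zpow_self (x : G) j i).eq
  apply le_antisymm _ hXab
  intro c hc
  have hxc : Commute (x : G) c := (hc (x : G) x.2)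
  obtain ⟨a, ha⟩ := orderOf_eq_pow_of_commute h22 (x : G) c hxord hxc
  have hpc : IsPGroup 11 ↥(zpowers c) := by
    apply IsPGroup.of_card (n := a)
    rw [Nat.card_zpowers, ha]
  have hnorm : zpowers c ≤ normalizer ((X : Subgroup G) : Set G) := by
    rw [zpowers_le]
    exact Subgroup.centralizer_le_normalizer _ hc
  have hsup : IsPGroup 11 ↥((zpowers c) ⊔ (X : Subgroup G)) :=
    IsPGroup.to_sup_of_normal_right' hpc X.2 hnorm
  have hmax := X.is_maximal' hsup le_sup_right
  have : c ∈ (zpowers c) ⊔ (X : Subgroup G) := le_sup_left (a := zpowers c) (mem_zpowers c)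
  rw [hmax] at this
  exact this

/-- the normalizer of a Sylow `11`-subgroup has order `22`, `55` or `110` -/
theorem card_normalizer_sylow_eleven [IsSimpleGroup G] (h22 : Nat.card (Sylow 3 G) = 22)
    (X : Sylow 11 G) : ∃ k : ℕ, (k = 2 ∨ k = 5 ∨ k = 10) ∧
      Nat.card (normalizer ((X : Subgroup G) : Set G)) = 11 * k := by
  have hcard := card_sylow_eleven h22 X
  have hcent := centralizer_sylow_eleven h22 X
  have : Fact (Nat.card ↥(X : Subgroup G)).Prime := ⟨by rw [hcard]; norm_num⟩
  have : IsCyclic ↥(X : Subgroup G) := isCyclic_of_prime_card hcard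
  -- the index of the centralizer in the normalizer divides `10`
  have hdvd : (centralizer ((X : Subgroup G) : Set G)).relIndex
      (normalizer ((X : Subgroup G) : Set G)) ∣ 10 := by
    have key := Subgroup.card_dvd_of_injective _
      (QuotientGroup.kerLift_injective (X : Subgroup G).normalizerMonoidHom)
    rw [Subgroup.normalizerMonoidHom_ker, ← Subgroup.index, ← Subgroup.relIndex] at key
    have h2 : Nat.card (MulAut ↥(X : Subgroup G)) = 10 := by
      rw [IsCyclic.card_mulAut, hcard]
      decide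
    rw [h2] at key
    exact key
  -- the normalizer is not the centralizer
  have hnc : ¬ IsMulCommutative G := by
    intro hc
    obtain ⟨P⟩ : Nonempty (Sylow 3 G) := inferInstance
    have hall : ∀ g : G, g • P = P := by
      intro g
      rw [Sylow.smul_eq_iff_mem_normalizer]
      show g ∈ normalizer ((P : Subgroup G) : Set G)
      rw [mem_normalizer_iff]
      intro h
      have : g * h * g⁻¹ = h := by
        rw [hc.is_comm.comm g h, mul_inv_cancel_right]
      rw [this]
    have : Nat.card (Sylow 3 G) = 1 := by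
      rw [Nat.card_eq_one_iff_unique]
      refine ⟨⟨fun a b => ?_⟩, ⟨P⟩⟩
      obtain ⟨x, rfl⟩ := MulAction.exists_smul_eq G P a
      obtain ⟨y, rfl⟩ := MulAction.exists_smul_eq G P b
      rw [hall x, hall y]
    omega
  have h11 : 11 ∣ Nat.card G := (by norm_num : 11 ∣ 22).trans (dvd_card_of_card_sylow h22)
  have hne : (centralizer ((X : Subgroup G) : Set G)).relIndex
      (normalizer ((X : Subgroup G) : Set G)) ≠ 1 := by
    intro h
    rw [Subgroup.relIndex_eq_one] at h
    exact Cfsg.Agent.Lib.Helper23.false_of_normalizer_le_centralizer hnc 11 h11 X h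
  have hmul := Subgroup.relIndex_mul_relIndex (⊥ : Subgroup G)
    (centralizer ((X : Subgroup G) : Set G)) (normalizer ((X : Subgroup G) : Set G)) bot_le
    (Subgroup.centralizer_le_normalizer _)
  rw [Subgroup.relIndex_bot_left, Subgroup.relIndex_bot_left, hcent, hcard] at hmul
  rw [hcent] at hdvd hne
  refine ⟨(X : Subgroup G).relIndex (normalizer ((X : Subgroup G) : Set G)), ?_, hmul.symm⟩
  have hle := Nat.le_of_dvd (by norm_num) hdvd
  have hpos : (X : Subgroup G).relIndex (normalizer ((X : Subgroup G) : Set G)) ≠ 0 := by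
    intro h
    rw [h] at hdvd
    omega
  generalize (X : Subgroup G).relIndex (normalizer ((X : Subgroup G) : Set G)) = k at *
  interval_cases k <;> simp_all

end Cfsg.Agent.Lib.Helper72.N22
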